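import Mathlib.RingTheory.MvPolynomial.Ideal
import Mathlib.RingTheory.Polynomial.Basic
import Mathlib.RingTheory.Regular.RegularSequence
import Mathlib.Tactic.Ring
import Mathlib.Tactic.LinearCombination

/-!
# Polynomials linear in a new variable: cancellation modulo ideals
-/

set_option autoImplicit false
universe u

open Polynomial

namespace Groth.Agent.LinSeq28

variable {R : Type u} [CommRing R]

/-- `a` can be cancelled modulo `I`. -/
def Cancel (I : Ideal R) (a : R) : Prop := ∀ x, x * a ∈ I → x ∈ I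

theorem cancel_neg {I : Ideal R} {a : R} (h : Cancel I a) : Cancel I (-a) := fun x hx =>
  h x (by simpa using hx)

theorem cancel_linear {I : Ideal R} {a b : R} (ha : Cancel I a) :
    Cancel (I.map C) (C a * X + C b) := by
  intro p hp
  rw [Ideal.mem_map_C_iff] at hp ⊢
  intro n
  by_contra hn
  have hlt : ∀ m, p.natDegree < m → p.coeff m ∈ I := fun m hm => by
    rw [coeff_eq_zero_of_natDegree_lt hm]; exact zero_mem _
  have hstep : ∀ m, p.coeff (m + 1) ∈ I → p.coeff m ∈ I := fun m hm => by
    refine ha _ ?_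
    have h := hp (m + 1)
    rw [mul_add, coeff_add, ← mul_assoc, coeff_mul_X, coeff_mul_C, coeff_mul_C] at h
    exact (Ideal.add_mem_iff_left _ (Ideal.mul_mem_right _ _ hm)).1 h
  refine hn ?_
  have key : ∀ j m, m + j = p.natDegree + 1 + n → p.coeff m ∈ I := by
    intro j
    induction j with
    | zero => exact fun m hm => hlt m (by omega)
    | succ j ih => exact fun m hm => hstep m (ih (m + 1) (by omega))
  exact key (p.natDegree + 1) n (by omega)

theorem cancel_C {I : Ideal R} {c : R} (hc : Cancel I c) : Cancel (I.map C) (C c) := by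
  intro p hp
  rw [Ideal.mem_map_C_iff] at hp ⊢
  exact fun n => hc _ (by simpa [coeff_mul_C] using hp n)

/-- Permuting a regular pair. -/
theorem cancel_swap {I : Ideal R} {a b c : R} (hc : Cancel I c) (ha : Cancel (I ⊔ Ideal.span {c}) a) :
    Cancel (I.map C ⊔ Ideal.span {C a * X + C b}) (C c) := by
  intro p hp
  set f := C a * X + C b
  obtain ⟨q, hq, z, hz, hqz⟩ := Submodule.mem_sup.1 hp
  obtain ⟨r, rfl⟩ := Ideal.mem_span_singleton'.1 hz
  have hr : r ∈ (I ⊔ Ideal.span {c}).map C := by
    refine cancel_linear (b := b) ha r ?_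
    rw [show r * f = p * C c - q by rw [← hqz]; ring, Ideal.map_sup]
    refine sub_mem (Ideal.mem_sup_right (Ideal.mul_mem_left _ _ (Ideal.mem_map_of_mem _ (Ideal.mem_span_singleton_self c)))) (Ideal.mem_sup_left hq)
  rw [Ideal.map_sup, Ideal.map_span, Set.image_singleton] at hr
  obtain ⟨q', hq', z', hz', hqz'⟩ := Submodule.mem_sup.1 hr
  obtain ⟨s, rfl⟩ := Ideal.mem_span_singleton'.1 hz'
  have h : p - s * f ∈ I.map C := cancel_C hc _ (by
    rw [show (p - s * f) * C c = q + q' * f by linear_combination -hqz + f * (-hqz')]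
    exact add_mem hq (Ideal.mul_mem_right _ _ hq'))
  rw [show p = (p - s * f) + s * f by ring]
  exact Submodule.add_mem_sup h (Ideal.mem_span_singleton'.2 ⟨s, rfl⟩)

theorem cancel_var (A : Type u) [CommRing A] {σ : Type*} (s : Set σ) (j : σ) (hj : j ∉ s) :
    Cancel (Ideal.span (MvPolynomial.X '' s : Set (MvPolynomial σ A))) (MvPolynomial.X j) := by
  classical
  intro x hx
  rw [MvPolynomial.mem_ideal_span_X_image] at hx ⊢
  intro m hm
  have hm' : m + Finsupp.single j 1 ∈ (x * MvPolynomial.X j).support := by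
    rw [MvPolynomial.mem_support_iff] at hm ⊢
    rwa [MvPolynomial.coeff_mul_X]
  obtain ⟨i, hi, hne⟩ := hx _ hm'
  have hij : j ≠ i := fun h => hj (h ▸ hi)
  exact ⟨i, hi, by simpa [Finsupp.single_apply, hij] using hne⟩

theorem isRegular_triple {S : Type u} [CommRing S] {T : Type u} [CommRing T] (e : S ≃+* T) (f₁ f₂ f₃ : S)
    (h1 : Cancel (⊥ : Ideal T) (e f₁)) (h2 : Cancel (Ideal.span {e f₁}) (e f₂))
    (h3 : Cancel (Ideal.span {e f₁, e f₂}) (e f₃)) (χ : S →+* T) [Nontrivial T]
    (hχ : χ f₁ = 0 ∧ χ f₂ = 0 ∧ χ f₃ = 0) :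
    RingTheory.Sequence.IsRegular S [f₁, f₂, f₃] := by
  constructor
  · have tr : ∀ (I : Ideal S) (f : S), Cancel (I.map e.toRingHom) (e f) → IsSMulRegular (S ⧸ (I • ⊤ : Submodule S S)) f := by
      intro I f h
      refine isSMulRegular_iff_right_eq_zero_of_smul.2 fun y hy => ?_
      obtain ⟨x, rfl⟩ := Submodule.Quotient.mk_surjective _ y
      rw [← Submodule.Quotient.mk_smul, Submodule.Quotient.mk_eq_zero] at hy
      rw [Submodule.Quotient.mk_eq_zero]
      simp only [smul_eq_mul, Ideal.mul_top] at hy ⊢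
      have hx : e x ∈ I.map e.toRingHom := h (e x) (by
        rw [← map_mul, mul_comm]; exact Ideal.mem_map_of_mem _ hy)
      obtain ⟨z, hz, hzx⟩ := (Ideal.mem_map_iff_of_surjective e.toRingHom e.surjective).1 hx
      exact e.injective hzx ▸ hz
    refine ⟨fun i hi => ?_⟩
    match i, hi with
    | 0, _ => exact tr _ _ (by simpa [Ideal.ofList] using h1)
    | 1, _ => exact tr _ _ (by simpa [Ideal.ofList, Ideal.map_span] using h2)
    | 2, _ => exact tr _ _ (by
        simp only [List.take_succ_cons, List.take_zero, List.getElem_cons_succ, List.getElem_cons_zero]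
        rw [Ideal.ofList, Ideal.map_span, show (e.toRingHom '' {r | r ∈ [f₁, f₂]}) = {e f₁, e f₂} by
          ext; simp [eq_comm]]
        exact h3)
    | i + 3, hi => simp at hi
  · intro h
    rw [smul_eq_mul, Ideal.mul_top] at h
    have h1' : (1 : S) ∈ Ideal.ofList [f₁, f₂, f₃] := h ▸ trivial
    have : Ideal.ofList [f₁, f₂, f₃] ≤ RingHom.ker χ := Ideal.span_le.2 (by
      intro r hr
      simp only [Set.mem_ofPred_eq, List.mem_cons, List.not_mem_nil, or_false] at hr
      rcases hr with rfl | rfl | rfl <;> simp [hχ])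
    simpa using this h1'

end Groth.Agent.LinSeq28
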